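import Mathlib

/-!
Rational actions of the additive group on a field: the field is purely transcendental of degree one over the
invariants.
-/

namespace Groth.Agent.H02CA.GaGmRat

universe u

open Polynomial

variable {K : Type u} [Field K] {F : Type u} [Field F] [Algebra K F]

/-- The invariants of a rational action `σ`. -/
noncomputable def invariants (σ : F →ₐ[K] RatFunc F) : IntermediateField K F where
  carrier := {f | σ f = algebraMap F (RatFunc F) f}
  mul_mem' {a b} ha hb := by simp only [Set.mem_setOf_eq, map_mul] at *; rw [ha, hb]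
  add_mem' {a b} ha hb := by simp only [Set.mem_setOf_eq, map_add] at *; rw [ha, hb]
  algebraMap_mem' c := by
    simp only [Set.mem_setOf_eq]
    rw [AlgHom.commutes, ← IsScalarTower.algebraMap_apply]
  inv_mem' a ha := by simp only [Set.mem_setOf_eq, map_inv₀] at *; rw [ha]

variable (σ : F →ₐ[K] RatFunc F)

theorem mem_invariants {f : F} : f ∈ invariants σ ↔ σ f = algebraMap F (RatFunc F) f := Iff.rfl

/-- `f` has a polynomial orbit. -/
def IsPol (f : F) (P : F[X]) : Prop := σ f = algebraMap F[X] (RatFunc F) P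

theorem IsPol.num_denom {f : F} {P : F[X]} (h : IsPol σ f P) : (σ f).num = P ∧ (σ f).denom = 1 := by
  rw [IsPol] at h
  rw [h]
  exact ⟨RatFunc.num_algebraMap P, RatFunc.denom_algebraMap P⟩

theorem mem_invariants_of_isPol {f : F} {c : F} (h : IsPol σ f (C c)) (hc : c = f) : f ∈ invariants σ := by
  subst hc
  rw [mem_invariants, h, RatFunc.algebraMap_C, RatFunc.algebraMap_eq_C]

section Additive

/-- The translation `P(X + t)` over `F(t)`. -/
noncomputable def shift (P : F[X]) : (RatFunc F)[X] :=
  (P.map (algebraMap F (RatFunc F))).comp (X + C RatFunc.X)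

theorem shift_coeff (P : F[X]) (k : ℕ) :
    (shift P).coeff k = algebraMap F[X] (RatFunc F) (hasseDeriv k P) := by
  rw [shift, ← taylor_apply, taylor_coeff]
  have hm : ∀ Q : F[X], hasseDeriv k (Q.map (algebraMap F (RatFunc F))) =
      (hasseDeriv k Q).map (algebraMap F (RatFunc F)) := fun Q => by
    ext n
    simp [hasseDeriv_coeff]
  rw [hm, eval_map]
  induction hasseDeriv k P using Polynomial.induction_on' with
  | add p q hp hq => rw [eval₂_add, hp, hq, map_add]
  | monomial n c =>
    rw [eval₂_monomial, ← C_mul_X_pow_eq_monomial, map_mul, map_pow, RatFunc.algebraMap_C, RatFunc.algebraMap_X,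
      RatFunc.algebraMap_eq_C]

theorem natDegree_shift (P : F[X]) : (shift P).natDegree = P.natDegree := by
  rw [shift, natDegree_comp, natDegree_X_add_C, mul_one, natDegree_map]

theorem shift_monic {P : F[X]} (h : P.Monic) : (shift P).Monic :=
  (h.map _).comp_X_add_C _

theorem shift_mul (P Q : F[X]) : shift (P * Q) = shift P * shift Q := by
  simp [shift]

theorem shift_add (P Q : F[X]) : shift (P + Q) = shift P + shift Q := by
  simp [shift]

variable (hev : ∀ f : F, (σ f).denom.eval 0 ≠ 0 ∧ f * (σ f).denom.eval 0 = (σ f).num.eval 0)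
  (hco : ∀ f : F, (σ f).num.map σ.toRingHom * shift (σ f).denom = shift (σ f).num * (σ f).denom.map σ.toRingHom)

include hev hco

theorem map_num_denom (f : F) : (σ f).num.map σ.toRingHom = shift (σ f).num ∧
    (σ f).denom.map σ.toRingHom = shift (σ f).denom := by
  have hm₁ := (σ f).monic_denom.map σ.toRingHom
  have hm₂ := shift_monic (σ f).monic_denom
  have hc₁ : IsCoprime ((σ f).num.map σ.toRingHom) ((σ f).denom.map σ.toRingHom) :=
    (σ f).isCoprime_num_denom.map (mapRingHom σ.toRingHom)
  have hc₂ : IsCoprime (shift (σ f).num) (shift (σ f).denom) := by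
    have := (σ f).isCoprime_num_denom.map
      ((compRingHom (X + C RatFunc.X : (RatFunc F)[X])).comp (mapRingHom (algebraMap F (RatFunc F))))
    exact this
  have e : (σ f).denom.map σ.toRingHom = shift (σ f).denom := by
    refine eq_of_monic_of_associated hm₁ hm₂ (associated_of_dvd_dvd ?_ ?_)
    · exact hc₁.symm.dvd_of_dvd_mul_left (Dvd.intro_left _ (hco f).symm)
    · exact hc₂.symm.dvd_of_dvd_mul_left (Dvd.intro_left _ (hco f))
  refine ⟨?_, e⟩
  have := hco f
  rw [e] at this
  exact mul_right_cancel₀ hm₂.ne_zero this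

theorem IsPol.map_eq {f : F} {P : F[X]} (h : IsPol σ f P) : P.map σ.toRingHom = shift P := by
  have := (map_num_denom σ hev hco f).1
  rwa [(h.num_denom σ).1] at this

theorem IsPol.coeff_zero {f : F} {P : F[X]} (h : IsPol σ f P) : P.coeff 0 = f := by
  have := (hev f).2
  rw [(h.num_denom σ).1, (h.num_denom σ).2, eval_one, mul_one, ← coeff_zero_eq_eval_zero] at this
  exact this.symm

omit hev hco in
theorem isPol_coeff_of_map_eq {P : F[X]} (h : P.map σ.toRingHom = shift P) (k : ℕ) :
    IsPol σ (P.coeff k) (hasseDeriv k P) := by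
  have := congrArg (fun Q => Q.coeff k) h
  simp only [coeff_map, shift_coeff] at this
  exact this

theorem IsPol.mem_of_natDegree_eq_zero {f : F} {P : F[X]} (h : IsPol σ f P) (hP : P.natDegree = 0) :
    f ∈ invariants σ := by
  have h0 := h.coeff_zero σ hev hco
  rw [eq_C_of_natDegree_eq_zero hP, h0] at h
  exact mem_invariants_of_isPol σ h rfl

/-- The field is generated over the invariants by one transcendental element. -/
theorem exists_generator_additive (hnt : invariants σ ≠ ⊤) :
    ∃ g : F, Transcendental (invariants σ) g ∧ IntermediateField.adjoin (invariants σ) {g} = ⊤ := by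
  classical
  have hrange : ∀ (f : F), ∃ a b : F, (∃ P, IsPol σ a P) ∧ (∃ P, IsPol σ b P) ∧ f = a / b := fun f => by
    refine ⟨(σ f).num.coeff 0, (σ f).denom.coeff 0,
      ⟨_, isPol_coeff_of_map_eq σ (map_num_denom σ hev hco f).1 0⟩,
      ⟨_, isPol_coeff_of_map_eq σ (map_num_denom σ hev hco f).2 0⟩, ?_⟩
    obtain ⟨h0, h1⟩ := hev f
    rw [coeff_zero_eq_eval_zero, coeff_zero_eq_eval_zero, ← h1, mul_div_cancel_right₀ _ h0]
  have hex : ∃ d, 0 < d ∧ ∃ (f : F) (P : F[X]), IsPol σ f P ∧ P.natDegree = d := by
    by_contra h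
    push Not at h
    refine hnt (eq_top_iff.2 fun f _ => ?_)
    obtain ⟨a, b, ⟨P, hP⟩, ⟨Q, hQ⟩, rfl⟩ := hrange f
    exact div_mem (hP.mem_of_natDegree_eq_zero σ hev hco (by_contra fun hne => h _ (Nat.pos_of_ne_zero hne) a P hP rfl))
      (hQ.mem_of_natDegree_eq_zero σ hev hco (by_contra fun hne => h _ (Nat.pos_of_ne_zero hne) b Q hQ rfl))
  obtain ⟨hd0, g₀, A₀, hA₀, hdeg₀⟩ := Nat.find_spec hex
  have hmin : ∀ (f : F) (P : F[X]), IsPol σ f P → P.natDegree < Nat.find hex → f ∈ invariants σ :=
    fun f P hP hlt => hP.mem_of_natDegree_eq_zero σ hev hco (by_contra fun hne =>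
      Nat.find_min hex hlt ⟨Nat.pos_of_ne_zero hne, f, P, hP, rfl⟩)
  -- normalise the leading coefficient
  have hlc : A₀.leadingCoeff ∈ invariants σ := by
    refine hmin _ _ (isPol_coeff_of_map_eq σ (hA₀.map_eq σ hev hco) A₀.natDegree) ?_
    have := natDegree_hasseDeriv_le A₀ A₀.natDegree
    omega
  have hA0 : A₀ ≠ 0 := fun h => by rw [h, natDegree_zero] at hdeg₀; omega
  set g := g₀ / A₀.leadingCoeff
  set A := A₀ * C A₀.leadingCoeff⁻¹ with hAdef
  have hA : IsPol σ g A := by
    rw [IsPol, map_div₀, hA₀, (mem_invariants σ).1 hlc, hAdef, map_mul, RatFunc.algebraMap_C, map_inv₀,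
      RatFunc.algebraMap_eq_C, div_eq_mul_inv]
  have hAm : A.Monic := monic_mul_leadingCoeff_inv hA0
  have hAd : A.natDegree = Nat.find hex := by
    rw [hAdef, natDegree_mul_C (inv_ne_zero (leadingCoeff_ne_zero.2 hA0)), hdeg₀]
  refine ⟨g, ?_, ?_⟩
  · rw [transcendental_iff]
    intro p hp
    by_contra hp0
    have h1 : p.map (algebraMap (invariants σ) F) ≠ 0 :=
      (Polynomial.map_ne_zero_iff (algebraMap (invariants σ) F).injective).2 hp0
    have h2 : σ (aeval g p) = algebraMap F[X] (RatFunc F) ((p.map (algebraMap (invariants σ) F)).comp A) := by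
      have key : σ.toRingHom.comp ((aeval g : (invariants σ)[X] →ₐ[invariants σ] F).toRingHom) =
          ((algebraMap F[X] (RatFunc F)).comp (compRingHom A)).comp (mapRingHom (algebraMap (invariants σ) F)) := by
        refine ringHom_ext (fun c => ?_) ?_
        · simp only [RingHom.comp_apply, AlgHom.toRingHom_eq_coe, RingHom.coe_coe, aeval_C, coe_mapRingHom, map_C,
            coe_compRingHom_apply, C_comp, RatFunc.algebraMap_C, ← RatFunc.algebraMap_eq_C]
          exact (mem_invariants σ).1 c.2
        · simp only [RingHom.comp_apply, AlgHom.toRingHom_eq_coe, RingHom.coe_coe, aeval_X, coe_mapRingHom, map_X,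
            coe_compRingHom_apply, X_comp]
          exact hA
      exact RingHom.congr_fun key p
    rw [hp, map_zero] at h2
    rcases comp_eq_zero_iff.1 ((map_eq_zero_iff _ (RatFunc.algebraMap_injective F)).1 h2.symm) with h | ⟨-, h⟩
    · exact h1 h
    · rw [h, natDegree_C] at hAd; omega
  · refine eq_top_iff.2 fun f _ => ?_
    suffices h : ∀ (m : ℕ) (a : F) (P : F[X]), IsPol σ a P → P.natDegree ≤ m →
        a ∈ IntermediateField.adjoin (invariants σ) {g} by
      obtain ⟨a, b, ⟨P, hP⟩, ⟨Q, hQ⟩, rfl⟩ := hrange f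
      exact div_mem (h _ a P hP le_rfl) (h _ b Q hQ le_rfl)
    intro m
    induction m using Nat.strong_induction_on with
    | _ m IH =>
      intro a P hP hm
      have hlow : ∀ b, b ∈ invariants σ → b ∈ IntermediateField.adjoin (invariants σ) {g} := fun b hb =>
        (IntermediateField.adjoin (invariants σ) {g}).algebraMap_mem ⟨b, hb⟩
      rcases lt_or_ge P.natDegree A.natDegree with hlt | hge
      · exact hlow a (hmin a P hP (hAd ▸ hlt))
      have hAs : A.map σ.toRingHom = shift A := hA.map_eq σ hev hco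
      have hPs := hP.map_eq σ hev hco
      have hsplit := modByMonic_add_div P A
      have hdegr : (P %ₘ A).degree < A.degree := degree_modByMonic_lt P hAm
      have hnat : (P %ₘ A).natDegree < A.natDegree :=
        natDegree_modByMonic_lt P hAm fun h => by rw [h, natDegree_one] at hAd; omega
      have hu := div_modByMonic_unique (f := shift P) (g := shift A) (shift (P /ₘ A)) (shift (P %ₘ A))
        (shift_monic hAm) ⟨by rw [← shift_mul, ← shift_add, hsplit],
          degree_lt_degree (by rw [natDegree_shift, natDegree_shift]; exact hnat)⟩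
      have hr : (P %ₘ A).map σ.toRingHom = shift (P %ₘ A) := by
        rw [map_modByMonic _ hAm, hPs, hAs, hu.2]
      have hB : (P /ₘ A).map σ.toRingHom = shift (P /ₘ A) := by
        rw [map_divByMonic _ hAm, hPs, hAs, hu.1]
      have hcr : (P %ₘ A).coeff 0 ∈ invariants σ := by
        refine hmin _ _ (isPol_coeff_of_map_eq σ hr 0) ?_
        rw [hasseDeriv_zero, LinearMap.id_apply, ← hAd]; exact hnat
      have hB0 : (P /ₘ A).coeff 0 ∈ IntermediateField.adjoin (invariants σ) {g} := by
        have hpB := isPol_coeff_of_map_eq σ hB 0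
        rw [hasseDeriv_zero, LinearMap.id_apply] at hpB
        refine IH (P /ₘ A).natDegree ?_ _ _ hpB le_rfl
        rw [natDegree_divByMonic P hAm]
        omega
      have ha : a = (P %ₘ A).coeff 0 + g * (P /ₘ A).coeff 0 := by
        rw [← hP.coeff_zero σ hev hco, ← hA.coeff_zero σ hev hco]
        conv_lhs => rw [← hsplit]
        rw [coeff_add, mul_coeff_zero]
      rw [ha]
      exact add_mem (hlow _ hcr) (mul_mem (IntermediateField.subset_adjoin _ _ (Set.mem_singleton g)) hB0)

end Additive

end Groth.Agent.H02CA.GaGmRat
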