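import Groth.Agent.H02CA.GaGmRat.Generic
import Groth.Agent.H17.BiratOver
import Groth.Agent.H17.RatCurve.Scheme
import Mathlib.AlgebraicGeometry.AffineSpace
import Mathlib.AlgebraicGeometry.SpreadingOut

/-!
A scheme whose function field is a rational function field in one variable is birational to an affine line over
a variety.
-/

namespace Groth.Agent.H02CA.GaGmRat

universe u

open CategoryTheory CategoryTheory.Limits AlgebraicGeometry
open Groth.Agent.H19Grp.AffineLineLaw (T Tmap)
open Groth.Agent.H02CA.GaGm (Tmap_comp Tmap_id Tmap_injective exists_Tmap)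

variable {K : Type u} [Field K]

/-- Isomorphic function fields give birational schemes. -/
theorem birationalOver_of_algEquiv (X Y : Over (Spec (CommRingCat.of K))) [IsIntegral X.left] [IsIntegral Y.left]
    [LocallyOfFiniteType X.hom] [LocallyOfFiniteType Y.hom]
    (e : letI := functionFieldAlgebra X; letI := functionFieldAlgebra Y;
      X.left.functionField ≃ₐ[K] Y.left.functionField) :
    Scheme.BirationalOver X.hom Y.hom := by
  letI := functionFieldAlgebra X
  letI := functionFieldAlgebra Y
  haveI : Subsingleton (Spec (CommRingCat.of K)) := inferInstanceAs (Subsingleton (PrimeSpectrum K))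
  let e' : X.left.presheaf.stalk (genericPoint X.left) ≅ Y.left.presheaf.stalk (genericPoint Y.left) :=
    e.toRingEquiv.toCommRingCatIso
  have hα : Spec.map e'.hom ≫ X.left.fromSpecStalk _ ≫ X.hom = Y.left.fromSpecStalk _ ≫ Y.hom := by
    have h := Over.w (Tmap e.toAlgHom)
    rw [← Spec.map_preimage (R := CommRingCat.of K) (X.left.fromSpecStalk (genericPoint X.left) ≫ X.hom),
      ← Spec.map_preimage (R := CommRingCat.of K) (Y.left.fromSpecStalk (genericPoint Y.left) ≫ Y.hom)]
    exact h
  have hβ : Spec.map e'.inv ≫ Y.left.fromSpecStalk _ ≫ Y.hom = X.left.fromSpecStalk _ ≫ X.hom := by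
    rw [← hα, ← Category.assoc, ← Spec.map_comp, Iso.hom_inv_id, Spec.map_id, Category.id_comp]
  have key : ∀ (A B : Scheme.{u}) (a : A) (b : B) (sA : A ⟶ Spec (CommRingCat.of K)) (sB : B ⟶ Spec (CommRingCat.of K))
      (h : sA a = sB b) (φ : B.presheaf.stalk b ⟶ A.presheaf.stalk a),
      Spec.map φ ≫ B.fromSpecStalk b ≫ sB = A.fromSpecStalk a ≫ sA →
      sB.stalkMap b ≫ φ = (Spec (CommRingCat.of K)).presheaf.stalkSpecializes (specializes_of_eq h) ≫ sA.stalkMap a := by
    intro A B a b sA sB h φ hφ
    apply Spec.map_injective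
    rw [← cancel_mono ((Spec (CommRingCat.of K)).fromSpecStalk (sB b))]
    simp only [Spec.map_comp, Category.assoc, Scheme.SpecMap_stalkMap_fromSpecStalk,
      Scheme.SpecMap_stalkSpecializes_fromSpecStalk]
    exact hφ
  have hs : X.hom (genericPoint X.left) = Y.hom (genericPoint Y.left) := Subsingleton.elim _ _
  obtain ⟨U, hxU, f, hf, hfs⟩ := spread_out_of_isGermInjective X.hom Y.hom hs e'.inv (key _ _ _ _ _ _ hs _ hβ)
  obtain ⟨V, hyV, g, hg, hgs⟩ := spread_out_of_isGermInjective Y.hom X.hom hs.symm e'.hom (key _ _ _ _ _ _ hs.symm _ hα)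
  exact Groth.Agent.H17.BiratOver.birationalOver_of_spread X.hom Y.hom hxU f hfs hyV g hgs e' hf hg

/-- A domain with an injection into a field all whose elements are fractions has that field as function field. -/
theorem exists_functionField_equiv (D F : Type u) [CommRing D] [IsDomain D] [Algebra K D] [Field F] [Algebra K F]
    (φ : D →ₐ[K] F) (hφ : Function.Injective φ) (hfr : ∀ f : F, ∃ a b : D, f = φ a / φ b) :
    haveI : IsIntegral (T K D).left := inferInstanceAs (IsIntegral (Spec (CommRingCat.of D)))
    letI := functionFieldAlgebra (T K D)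
    Nonempty ((T K D).left.functionField ≃ₐ[K] F) := by
  haveI : IsIntegral (T K D).left := inferInstanceAs (IsIntegral (Spec (CommRingCat.of D)))
  letI := functionFieldAlgebra (T K D)
  obtain ⟨ψ, hψ⟩ := (isGenericPt_genPt (T K D)).lift (Tmap φ) (by
    rw [genPt_apply]
    haveI : IrreducibleSpace (Spec (CommRingCat.of D)) := inferInstance
    have h2 : genericPoint (Spec (CommRingCat.of D)) = ⟨⊥, Ideal.isPrime_bot⟩ := genericPoint_eq_bot_of_affine _
    refine Eq.trans ?_ h2.symm
    refine PrimeSpectrum.ext ?_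
    show Ideal.comap φ.toRingHom (IsLocalRing.maximalIdeal F) = ⊥
    rw [IsLocalRing.maximalIdeal_eq_bot, ← RingHom.ker_eq_comap_bot, RingHom.ker_eq_bot_iff_eq_zero]
    exact fun x hx => hφ (hx.trans (map_zero φ).symm))
  obtain ⟨χ, hχ⟩ := exists_Tmap (genPt (T K D))
  have hφψ : φ = ψ.comp χ := Tmap_injective (by rw [Tmap_comp, hχ, hψ])
  refine ⟨AlgEquiv.ofBijective ψ ⟨ψ.toRingHom.injective, fun f => ?_⟩⟩
  obtain ⟨a, b, rfl⟩ := hfr f
  exact ⟨χ a / χ b, by rw [map_div₀, hφψ]; rfl⟩

/-- A variety with function field `L(g)` is birational to an affine line over a variety. -/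
theorem exists_birational_affineLine (X : Over (Spec (CommRingCat.of K))) [IsIntegral X.left]
    [LocallyOfFiniteType X.hom]
    (hgen : letI := functionFieldAlgebra X
      ∃ (L : IntermediateField K X.left.functionField) (g : X.left.functionField),
        Transcendental L g ∧ IntermediateField.adjoin L {g} = ⊤) :
    ∃ (Y : Over (Spec (CommRingCat.of K))) (_ : IsIntegral Y.left) (_ : LocallyOfFiniteType Y.hom)
      (U : X.left.Opens) (V : (𝔸(ULift.{u} (Fin 1); Y.left)).Opens), (U : Set X.left).Nonempty ∧
      Nonempty (Over.mk (U.ι ≫ X.hom) ≅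
        Over.mk (V.ι ≫ (𝔸(ULift.{u} (Fin 1); Y.left) ↘ Y.left) ≫ Y.hom)) := by
  classical
  letI := functionFieldAlgebra X
  obtain ⟨L, g, hg, htop⟩ := hgen
  let F := X.left.functionField
  haveI : Algebra.EssFiniteType K F := by
    have h1 : ((X.left.fromSpecStalk (genericPoint X.left) ≫ X.hom)) = Spec.map (CommRingCat.ofHom (algebraMap K F)) :=
      (Spec.map_preimage _).symm
    have h2 := LocallyOfFiniteType.stalkMap X.hom (genericPoint X.left)
    set x := X.hom (genericPoint X.left)
    let α : CommRingCat.of K ⟶ (Spec (CommRingCat.of K)).presheaf.stalk x := StructureSheaf.toStalk K x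
    have hα : α.hom.EssFiniteType := by
      letI : Algebra K ((Spec (CommRingCat.of K)).presheaf.stalk x) := StructureSheaf.stalkAlgebra K x
      haveI : IsLocalization.AtPrime ((Spec (CommRingCat.of K)).presheaf.stalk x) x.asIdeal :=
        StructureSheaf.IsLocalization.to_stalk K x
      show RingHom.EssFiniteType (algebraMap K ((Spec (CommRingCat.of K)).presheaf.stalk x))
      rw [RingHom.essFiniteType_algebraMap]
      exact @Algebra.EssFiniteType.of_isLocalization K _ _ _ _ _ this
    have h3 : CommRingCat.ofHom (algebraMap K F) = α ≫ X.hom.stalkMap (genericPoint X.left) := by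
      apply Spec.map_injective
      rw [Spec.map_comp, ← h1, ← Scheme.SpecMap_stalkMap_fromSpecStalk]
      exact congrArg (Spec.map (X.hom.stalkMap (genericPoint X.left)) ≫ ·) (Spec.fromSpecStalk_eq' (CommRingCat.of K) x)
    have h4 : (CommRingCat.ofHom (algebraMap K F)).hom.EssFiniteType := by
      rw [h3]; exact RingHom.EssFiniteType.comp hα h2
    exact h4
  obtain ⟨σ, hσ⟩ := IntermediateField.essFiniteType_iff.1 ((Algebra.EssFiniteType.iff_of_algEquiv
    (IntermediateField.topEquiv (F := K) (E := F))).2 inferInstance)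
  have hrs : ∀ t : F, ∃ r q : Polynomial L, t = Polynomial.aeval g r / Polynomial.aeval g q := fun t =>
    (IntermediateField.mem_adjoin_simple_iff L t).1 (by rw [htop]; trivial)
  choose r q hrq using hrs
  let S : Finset L := σ.biUnion fun t => (r t).coeffs ∪ (q t).coeffs
  let A : Subalgebra K L := Algebra.adjoin K (S : Set L)
  haveI : Algebra.FiniteType K A := A.fg_iff_finiteType.1 (Subalgebra.fg_adjoin_finset S) 
  let D := MvPolynomial (ULift.{u} (Fin 1)) A
  let φ : D →ₐ[K] F := MvPolynomial.aevalTower ((L.val.comp A.val)) fun _ => g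
  have hφ : Function.Injective φ := by
    have : φ.toRingHom = ((Polynomial.aeval g : Polynomial L →ₐ[L] F).toRingHom.comp
        (Polynomial.mapRingHom A.val.toRingHom)).comp
        (MvPolynomial.uniqueAlgEquiv A (ULift.{u} (Fin 1))).toRingEquiv.toRingHom := by
      refine MvPolynomial.ringHom_ext (fun a => ?_) (fun i => ?_)
      · exact (MvPolynomial.aevalTower_C _ _ _).trans (by simp; rfl)
      · exact (MvPolynomial.aevalTower_X _ _ _).trans (by simp)
    show Function.Injective φ.toRingHom
    rw [this]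
    exact ((transcendental_iff_injective.1 hg).comp
      (Polynomial.map_injective A.val.toRingHom Subtype.val_injective)).comp (AlgEquiv.injective _)
  have hfr : ∀ f : F, ∃ a b : D, f = φ a / φ b := by
    intro f
    let M : IntermediateField K F :=
      { carrier := {x | ∃ a b : D, x = φ a / φ b}
        mul_mem' := by rintro _ _ ⟨a, b, rfl⟩ ⟨a', b', rfl⟩; exact ⟨a * a', b * b', by rw [map_mul, map_mul, div_mul_div_comm]⟩
        add_mem' := by
          rintro _ _ ⟨a, b, rfl⟩ ⟨a', b', rfl⟩
          by_cases hb : φ b = 0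
          · exact ⟨a', b', by rw [hb, div_zero, zero_add]⟩
          by_cases hb' : φ b' = 0
          · exact ⟨a, b, by rw [hb', div_zero, add_zero]⟩
          exact ⟨a * b' + b * a', b * b', by rw [map_add, map_mul, map_mul, map_mul, div_add_div _ _ hb hb']⟩
        algebraMap_mem' := fun c => ⟨algebraMap K D c, 1, by rw [map_one, div_one, AlgHom.commutes]⟩
        inv_mem' := by rintro _ ⟨a, b, rfl⟩; exact ⟨b, a, inv_div _ _⟩ }
    suffices h : (σ : Set F) ⊆ (M : Set F) by
      have := IntermediateField.adjoin_le_iff.2 h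
      rw [hσ] at this
      exact this (IntermediateField.mem_top (x := f))
    intro t ht
    have hmem : ∀ (p : Polynomial L), (∀ c ∈ p.coeffs, c ∈ S) → Polynomial.aeval g p ∈ φ.range := by
      intro p hp
      rw [Polynomial.aeval_eq_sum_range]
      refine sum_mem fun i _ => ?_
      rw [Algebra.smul_def]
      refine mul_mem ?_ (pow_mem (show g ∈ φ.range from ⟨MvPolynomial.X ⟨0⟩, MvPolynomial.aevalTower_X _ _ _⟩) i)
      by_cases h0 : p.coeff i = 0
      · rw [h0, map_zero]; exact zero_mem _
      · exact ⟨MvPolynomial.C ⟨p.coeff i, Algebra.subset_adjoin (hp _ (Polynomial.coeff_mem_coeffs h0))⟩,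
          MvPolynomial.aevalTower_C _ _ _⟩
    obtain ⟨a, ha⟩ := hmem (r t) fun c hc => Finset.mem_biUnion.2 ⟨t, ht, Finset.mem_union_left _ hc⟩
    obtain ⟨b, hb⟩ := hmem (q t) fun c hc => Finset.mem_biUnion.2 ⟨t, ht, Finset.mem_union_right _ hc⟩
    exact ⟨a, b, by rw [show φ a = _ from ha, show φ b = _ from hb]; exact hrq t⟩
  haveI : IsIntegral (T K D).left := inferInstanceAs (IsIntegral (Spec (CommRingCat.of D)))
  haveI : LocallyOfFiniteType (T K D).hom :=
    (HasRingHomProperty.Spec_iff (P := @LocallyOfFiniteType)).2 (RingHom.finiteType_algebraMap.2 inferInstance)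
  letI := functionFieldAlgebra (T K D)
  obtain ⟨ε⟩ := exists_functionField_equiv D F φ hφ hfr
  obtain ⟨P, hP⟩ := birationalOver_of_algEquiv X (T K D) ε.symm
  haveI : Nonempty P.source := by
    obtain ⟨z, hz⟩ := P.dense_source.nonempty
    exact ⟨⟨z, hz⟩⟩
  let Y := T K A
  haveI : IsIntegral Y.left := inferInstanceAs (IsIntegral (Spec (CommRingCat.of A)))
  haveI : LocallyOfFiniteType Y.hom :=
    (HasRingHomProperty.Spec_iff (P := @LocallyOfFiniteType)).2 (RingHom.finiteType_algebraMap.2 inferInstance)
  let η := AffineSpace.SpecIso (ULift.{u} (Fin 1)) (CommRingCat.of A)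
  obtain ⟨U, V, e, hU, he⟩ := Groth.Agent.H17.RatCurve.exists_opens_iso X.hom
    ((𝔸(ULift.{u} (Fin 1); Y.left) ↘ Y.left) ≫ Y.hom) P.source.ι (P.target.ι ≫ η.inv) P.iso (by
      rw [← hP]
      simp only [Category.assoc]
      congr 2
      refine Eq.trans ?_ (AffineSpace.SpecIso_inv_over_assoc (n := ULift.{u} (Fin 1)) (CommRingCat.of A) Y.hom).symm
      show Spec.map _ = Spec.map _ ≫ Spec.map _
      rw [← Spec.map_comp]
      rfl)
  obtain ⟨z⟩ := hU
  exact ⟨Y, inferInstance, inferInstance, U, V, ⟨z.1, z.2⟩, ⟨Over.isoMk e he⟩⟩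

end Groth.Agent.H02CA.GaGmRat
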