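import Groth.Agent.H02CA.GaGmRat.Sigma

/-!
The generic point of an integral scheme over a field, and the triviality criterion for actions.
-/

namespace Groth.Agent.H02CA.GaGmRat

universe u

open Polynomial CategoryTheory CategoryTheory.Limits MonoidalCategory CartesianMonoidalCategory AlgebraicGeometry
open scoped MonObj
open Groth.Agent.H19Grp.AffineLineLaw (T Tmap exists_T_iso)
open Groth.Agent.H02CA.GaGm (Tmap_comp Tmap_id Tmap_injective exists_Tmap)

variable {K : Type u} [Field K] (X : Over (Spec (CommRingCat.of K))) [IsIntegral X.left]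

/-- The `K`-algebra structure on the function field. -/
noncomputable abbrev functionFieldAlgebra : Algebra K X.left.functionField :=
  (Spec.preimage (R := CommRingCat.of K) (X.left.fromSpecStalk (genericPoint X.left) ≫ X.hom)).hom.toAlgebra

/-- The generic point. -/
noncomputable def genPt : letI := functionFieldAlgebra X; T K X.left.functionField ⟶ X :=
  letI := functionFieldAlgebra X
  Over.homMk (X.left.fromSpecStalk (genericPoint X.left)) (Spec.map_preimage _).symm

theorem genPt_left : letI := functionFieldAlgebra X; (genPt X).left = X.left.fromSpecStalk (genericPoint X.left) := rfl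

theorem genPt_apply (z : Spec (CommRingCat.of X.left.functionField)) :
    letI := functionFieldAlgebra X; (genPt X).left z = genericPoint X.left := by
  letI := functionFieldAlgebra X
  haveI : Subsingleton (Spec (CommRingCat.of X.left.functionField)) :=
    inferInstanceAs (Subsingleton (PrimeSpectrum X.left.functionField))
  rw [Subsingleton.elim z (IsLocalRing.closedPoint X.left.functionField)]
  exact Scheme.fromSpecStalk_closedPoint

theorem isGenericPt_genPt : letI := functionFieldAlgebra X; IsGenericPt (genPt X) := by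
  letI := functionFieldAlgebra X
  refine ⟨fun {R} _ _ _ y hy => ?_, fun {R} _ _ ψ ψ' h => ?_⟩
  · have hy' : y.left (IsLocalRing.closedPoint R) = genericPoint X.left := hy.trans (genPt_apply X _)
    have key : ∀ (z : X.left), z = genericPoint X.left → ∀ (φ : X.left.presheaf.stalk z ⟶ CommRingCat.of R),
        Spec.map φ ≫ X.left.fromSpecStalk z = y.left →
        ∃ φ' : X.left.presheaf.stalk (genericPoint X.left) ⟶ CommRingCat.of R,
          Spec.map φ' ≫ X.left.fromSpecStalk (genericPoint X.left) = y.left := by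
      rintro z rfl φ hφ; exact ⟨φ, hφ⟩
    obtain ⟨φ, hφ⟩ := key _ hy' (Scheme.stalkClosedPointTo (R := CommRingCat.of R) y.left)
      (Scheme.Spec_stalkClosedPointTo_fromSpecStalk y.left)
    let g : T K R ⟶ T K X.left.functionField := Over.homMk (Spec.map φ) (by
      show Spec.map φ ≫ Spec.map (CommRingCat.ofHom (algebraMap K X.left.functionField)) = (T K R).hom
      refine (congrArg (Spec.map φ ≫ ·) ((Spec.map_preimage _ :) :
        Spec.map (CommRingCat.ofHom (algebraMap K X.left.functionField)) =
          X.left.fromSpecStalk (genericPoint X.left) ≫ X.hom)).trans ?_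
      rw [← Category.assoc, hφ, Over.w y])
    obtain ⟨ψ, hψ⟩ := exists_Tmap g
    refine ⟨ψ, ?_⟩
    rw [hψ]
    exact Over.OverMorphism.ext hφ
  · have h' := congrArg (fun f => Over.Hom.left f) h
    simp only [Over.comp_left, genPt_left, cancel_mono] at h'
    exact Tmap_injective (Over.OverMorphism.ext h')

variable {X} {G : Over (Spec (CommRingCat.of K))} [GrpObj G] (a : AlgGrp.Action G X) (P : Param G)

/-- The hypothesis that the coordinate of `P` is universal. -/
def Param.Universal : Prop :=
  (∀ {R : Type u} [CommRing R] [Algebra K R] (g : T K R ⟶ G), ∃ r : R, P.ok r ∧ P.p r = g) ∧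
  ∀ (A F : Type u) [CommRing A] [Field F] [Algebra K A] [Algebra K F] (i : A →ₐ[K] F), Function.Injective i →
    ∃ (B : Type u) (_ : CommRing B) (_ : Algebra K B) (s : B) (emb : A →ₐ[K] B) (j : B →ₐ[K] RatFunc F),
      P.ok s ∧ Function.Injective j ∧ j s = RatFunc.X ∧ j.comp emb = (IsScalarTower.toAlgHom K F (RatFunc F)).comp i ∧
      ∀ (R : Type u) [CommRing R] [Algebra K R] (χ : A →ₐ[K] R) (r : R), P.ok r →
        ∃ Φ : B →ₐ[K] R, Φ.comp emb = χ ∧ Φ s = r

/-- An action fixing the generic point is trivial. -/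
theorem act_eq_snd_of_generic [IsSeparated X.hom] (hP : P.Universal)
    (h : letI := functionFieldAlgebra X
      lift (P.p (RatFunc.X : RatFunc X.left.functionField))
        (Tmap (IsScalarTower.toAlgHom K X.left.functionField (RatFunc X.left.functionField)) ≫ genPt X) ≫ a.act =
      Tmap (IsScalarTower.toAlgHom K X.left.functionField (RatFunc X.left.functionField)) ≫ genPt X) :
    a.act = snd G X := by
  letI := functionFieldAlgebra X
  set F := X.left.functionField
  refine Over.OverMorphism.ext (Scheme.hom_ext_of_forall _ _ fun z => ?_)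
  obtain ⟨U, hU, hxU, -⟩ := exists_isAffineOpen_mem_and_subset
    (TopologicalSpace.Opens.mem_top ((snd G X).left z))
  obtain ⟨W, hW, hzW, hWU⟩ := exists_isAffineOpen_mem_and_subset (show z ∈ (snd G X).left ⁻¹ᵁ U from hxU)
  refine ⟨W, hzW, ?_⟩
  haveI : IsAffine (Over.mk (W.ι ≫ (G ⊗ X).hom)).left := hW
  obtain ⟨R, _, _, ⟨e⟩⟩ := exists_T_iso (Over.mk (W.ι ≫ (G ⊗ X).hom))
  haveI : IsAffine (Over.mk (U.ι ≫ X.hom)).left := hU
  obtain ⟨A, _, _, ⟨eA⟩⟩ := exists_T_iso (Over.mk (U.ι ≫ X.hom))
  let xA : T K A ⟶ X := eA.hom ≫ Over.homMk U.ι rfl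
  let zR : T K R ⟶ G ⊗ X := e.hom ≫ Over.homMk W.ι rfl
  suffices hz : zR ≫ a.act = zR ≫ snd G X by
    have := congrArg (fun f => Over.Hom.left f) hz
    simp only [zR, Over.comp_left, Over.homMk_left, Category.assoc] at this
    exact (cancel_epi e.hom.left).1 this
  obtain ⟨χ, hχ⟩ : ∃ χ : A →ₐ[K] R, Tmap χ ≫ xA = zR ≫ snd G X := by
    have hr : Set.range ((zR ≫ snd G X).left) ⊆ Set.range U.ι := by
      rw [Scheme.Opens.range_ι]
      rintro _ ⟨p, rfl⟩
      exact hWU (e.hom.left p).2
    let l : T K R ⟶ Over.mk (U.ι ≫ X.hom) := Over.homMk (IsOpenImmersion.lift U.ι _ hr) (by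
      show IsOpenImmersion.lift U.ι _ hr ≫ U.ι ≫ X.hom = _
      rw [IsOpenImmersion.lift_fac_assoc, Over.w])
    obtain ⟨χ, hχ⟩ := exists_Tmap (l ≫ eA.inv)
    refine ⟨χ, ?_⟩
    rw [hχ, Category.assoc, Iso.inv_hom_id_assoc]
    exact Over.OverMorphism.ext (IsOpenImmersion.lift_fac _ _ hr)
  -- the generic point factors through `U`
  obtain ⟨i, hi⟩ : ∃ i : A →ₐ[K] F, Tmap i ≫ xA = genPt X := by
    have hr : Set.range (genPt X).left ⊆ Set.range U.ι := by
      rw [Scheme.Opens.range_ι]
      rintro _ ⟨p, rfl⟩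
      rw [genPt_apply]
      exact (genericPoint_specializes ((snd G X).left z)).mem_open U.2 hxU
    let l : T K F ⟶ Over.mk (U.ι ≫ X.hom) := Over.homMk (IsOpenImmersion.lift U.ι _ hr) (by
      show IsOpenImmersion.lift U.ι _ hr ≫ U.ι ≫ X.hom = _
      rw [IsOpenImmersion.lift_fac_assoc, Over.w])
    obtain ⟨i, hi⟩ := exists_Tmap (l ≫ eA.inv)
    refine ⟨i, ?_⟩
    rw [hi, Category.assoc, Iso.inv_hom_id_assoc]
    exact Over.OverMorphism.ext (IsOpenImmersion.lift_fac _ _ hr)
  have hiinj : Function.Injective i := by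
    haveI : IsIntegral (Over.mk (U.ι ≫ X.hom)).left :=
      haveI : Nonempty U := ⟨⟨_, hxU⟩⟩
      inferInstanceAs (IsIntegral U.toScheme)
    haveI : IsIntegral (Spec (CommRingCat.of A)) := IsIntegral.of_isIso eA.inv.left
    haveI : IsDomain A := by
      have := (Scheme.ΓSpecIso (CommRingCat.of A)).commRingCatIsoToRingEquiv.toMulEquiv.isDomain_iff
      exact this.1 inferInstance
    refine (injective_iff_map_eq_zero _).2 fun c hc => ?_
    have h1 : (Tmap i).left (IsLocalRing.closedPoint F) = genericPoint (Spec (CommRingCat.of A)) := by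
      haveI : IrreducibleSpace (T K A).left := inferInstanceAs (IrreducibleSpace (Spec (CommRingCat.of A)))
      haveI : IsOpenImmersion xA.left := by
        show IsOpenImmersion (eA.hom.left ≫ U.ι)
        infer_instance
      refine (xA.left.isOpenEmbedding).injective ?_
      rw [← Scheme.Hom.comp_apply, ← Over.comp_left, hi, genPt_apply]
      exact (genericPoint_eq_of_isOpenImmersion xA.left).symm
    have h2 : c ∈ (genericPoint (Spec (CommRingCat.of A))).asIdeal := by
      rw [← h1]
      show i c ∈ IsLocalRing.maximalIdeal F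
      rw [hc]; exact zero_mem _
    rwa [genericPoint_eq_bot_of_affine] at h2
  obtain ⟨B, _, _, s, emb, j, hs, hj, hjs, hjι, hBu⟩ := hP.2 A F i hiinj
  have hB : lift (P.p s) (Tmap emb ≫ xA) ≫ a.act = Tmap emb ≫ xA := by
    refine Over.OverMorphism.ext ?_
    haveI : _root_.IsReduced B := isReduced_of_injective j hj
    haveI : AlgebraicGeometry.IsReduced (T K B).left := inferInstanceAs (AlgebraicGeometry.IsReduced (Spec (CommRingCat.of B)))
    haveI : IsDominant (Tmap j).left := ⟨(PrimeSpectrum.denseRange_comap_iff_ker_le_nilRadical j.toRingHom).2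
      (fun b hb => by
        rw [show b = 0 from hj (by rw [map_zero]; exact hb)]
        exact zero_mem _)⟩
    refine ext_of_isDominant_of_isSeparated X.hom ((Over.w _).trans (Over.w _).symm) (Tmap j).left ?_
    rw [← Over.comp_left, ← Over.comp_left]
    congr 1
    rw [act_comp, P.natural j hs, hjs, ← Category.assoc, ← Tmap_comp, hjι, Tmap_comp, Category.assoc, hi]
    exact h
  obtain ⟨r, hr, hrg⟩ := hP.1 (zR ≫ fst G X)
  obtain ⟨Φ, hΦι, hΦs⟩ := hBu R χ r hr
  calc zR ≫ a.act = lift (zR ≫ fst G X) (zR ≫ snd G X) ≫ a.act := by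
        rw [← comp_lift, lift_fst_snd, Category.comp_id]
    _ = Tmap Φ ≫ lift (P.p s) (Tmap emb ≫ xA) ≫ a.act := by
        rw [act_comp, P.natural Φ hs, hΦs, hrg, ← Category.assoc (Tmap Φ), ← Tmap_comp, hΦι, hχ]
    _ = zR ≫ snd G X := by rw [hB, ← Category.assoc, ← Tmap_comp, hΦι, hχ]

end Groth.Agent.H02CA.GaGmRat
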