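import Groth.Agent.H02CA.GaGmRat.Additive

/-!
Rational actions of the multiplicative group on a field: the field is purely transcendental of degree one over the
invariants.
-/

namespace Groth.Agent.H02CA.GaGmRat

universe u

open Polynomial

variable {K : Type u} [Field K] {F : Type u} [Field F] [Algebra K F] (σ : F →ₐ[K] RatFunc F)

/-- `f` is a semi-invariant of weight `m`. -/
def IsWeight (f : F) (m : ℤ) : Prop := σ f = algebraMap F (RatFunc F) f * RatFunc.X ^ m

/-- The dilation `P(t X)` over `F(t)`. -/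
noncomputable def scale (P : F[X]) : (RatFunc F)[X] :=
  (P.map (algebraMap F (RatFunc F))).comp (C RatFunc.X * X)

theorem scale_coeff (P : F[X]) (k : ℕ) :
    (scale P).coeff k = algebraMap F (RatFunc F) (P.coeff k) * RatFunc.X ^ k := by
  rw [scale, comp_C_mul_X_coeff, coeff_map]

theorem natDegree_scale (P : F[X]) : (scale P).natDegree = P.natDegree := by
  rw [scale, natDegree_comp, natDegree_C_mul_X _ RatFunc.X_ne_zero, mul_one, natDegree_map]

theorem scale_mul (P Q : F[X]) : scale (P * Q) = scale P * scale Q := by simp [scale]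

variable (hev : ∀ f : F, (σ f).denom.eval 1 ≠ 0 ∧ f * (σ f).denom.eval 1 = (σ f).num.eval 1)
  (hco : ∀ f : F, (σ f).num.map σ.toRingHom * scale (σ f).denom = scale (σ f).num * (σ f).denom.map σ.toRingHom)

include hev hco

theorem weight_coeff (f : F) (k : ℕ) :
    IsWeight σ ((σ f).num.coeff k) (k - (σ f).denom.natDegree) ∧
    IsWeight σ ((σ f).denom.coeff k) (k - (σ f).denom.natDegree) := by
  set Q := (σ f).denom
  set P := (σ f).num
  set u : RatFunc F := (RatFunc.X ^ Q.natDegree)⁻¹
  have hu : u ≠ 0 := inv_ne_zero (pow_ne_zero _ RatFunc.X_ne_zero)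
  have hm₁ : (Q.map σ.toRingHom).Monic := (σ f).monic_denom.map σ.toRingHom
  have hm₂ : (scale Q * C u).Monic := by
    rw [Monic, leadingCoeff_mul, leadingCoeff_C, leadingCoeff, natDegree_scale, scale_coeff,
      (σ f).monic_denom.coeff_natDegree, map_one, one_mul, mul_inv_cancel₀ (pow_ne_zero _ RatFunc.X_ne_zero)]
  have hc₁ : IsCoprime (P.map σ.toRingHom) (Q.map σ.toRingHom) :=
    (σ f).isCoprime_num_denom.map (mapRingHom σ.toRingHom)
  have hc₂ : IsCoprime (scale P) (scale Q) := by
    have := (σ f).isCoprime_num_denom.map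
      ((compRingHom (C RatFunc.X * X : (RatFunc F)[X])).comp (mapRingHom (algebraMap F (RatFunc F))))
    exact this
  have hcu : IsUnit (C u) := isUnit_C.2 (IsUnit.mk0 u hu)
  have eQ : Q.map σ.toRingHom = scale Q * C u := by
    refine eq_of_monic_of_associated hm₁ hm₂ (associated_of_dvd_dvd ?_ ?_)
    · exact (hc₁.symm.dvd_of_dvd_mul_left (Dvd.intro_left _ (hco f).symm)).mul_right _
    · exact hcu.mul_right_dvd.2 (hc₂.symm.dvd_of_dvd_mul_left (Dvd.intro_left _ (hco f)))
  have eP : P.map σ.toRingHom = scale P * C u := by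
    have := hco f
    rw [eQ, ← mul_assoc] at this
    have h2 : scale Q ≠ 0 := left_ne_zero_of_mul hm₂.ne_zero
    exact mul_right_cancel₀ h2 (this.trans (by ring))
  have hz : u = RatFunc.X ^ (-(Q.natDegree : ℤ)) := by rw [zpow_neg, zpow_natCast]
  refine ⟨?_, ?_⟩
  · have := congrArg (fun R => R.coeff k) eP
    simp only [coeff_map, coeff_mul_C, scale_coeff] at this
    rw [IsWeight, sub_eq_add_neg, zpow_add₀ RatFunc.X_ne_zero, zpow_natCast, ← hz, ← mul_assoc]
    exact this
  · have := congrArg (fun R => R.coeff k) eQ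
    simp only [coeff_map, coeff_mul_C, scale_coeff] at this
    rw [IsWeight, sub_eq_add_neg, zpow_add₀ RatFunc.X_ne_zero, zpow_natCast, ← hz, ← mul_assoc]
    exact this

/-- The field is generated over the invariants by one transcendental element. -/
theorem exists_generator_multiplicative (hnt : invariants σ ≠ ⊤) :
    ∃ g : F, Transcendental (invariants σ) g ∧ IntermediateField.adjoin (invariants σ) {g} = ⊤ := by
  classical
  have hinv : ∀ f, IsWeight σ f 0 → f ∈ invariants σ := fun f hf => by
    rw [mem_invariants, hf, zpow_zero, mul_one]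
  have hfrac : ∀ (f : F), ∃ (I : Finset ℕ) (P Q : ℕ → F) (m : ℕ → ℤ), (∀ k, IsWeight σ (P k) (m k)) ∧
      (∀ k, IsWeight σ (Q k) (m k)) ∧ f = (∑ k ∈ I, P k) / ∑ k ∈ I, Q k := fun f => by
    obtain ⟨h0, h1⟩ := hev f
    refine ⟨Finset.range (max (σ f).num.natDegree (σ f).denom.natDegree + 1), (σ f).num.coeff, (σ f).denom.coeff,
      fun k => k - (σ f).denom.natDegree, fun k => (weight_coeff σ hev hco f k).1,
      fun k => (weight_coeff σ hev hco f k).2, ?_⟩
    rw [eq_div_iff]
    · rw [eval_eq_sum_range' (n := max (σ f).num.natDegree (σ f).denom.natDegree + 1) (by omega),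
        eval_eq_sum_range' (p := (σ f).num) (n := max (σ f).num.natDegree (σ f).denom.natDegree + 1) (by omega)] at h1
      simpa using h1
    · rw [eval_eq_sum_range' (n := max (σ f).num.natDegree (σ f).denom.natDegree + 1) (by omega)] at h0
      simpa using h0
  have hpow : ∀ {f : F} {m : ℤ}, IsWeight σ f m → ∀ j : ℤ, IsWeight σ (f ^ j) (m * j) := fun {f m} hf j => by
    rw [IsWeight, map_zpow₀, hf, mul_zpow, map_zpow₀, ← zpow_mul]
  have hex : ∃ d : ℕ, 0 < d ∧ ∃ f, f ≠ 0 ∧ IsWeight σ f d := by
    by_contra h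
    push Not at h
    have hz : ∀ {f : F} {m : ℤ}, IsWeight σ f m → f ≠ 0 → m = 0 := fun {f m} hf hf0 => by
      rcases lt_trichotomy m 0 with hm | hm | hm
      · refine absurd ?_ (h m.natAbs (by omega) f⁻¹ (inv_ne_zero hf0))
        have := hpow hf (-1)
        rwa [zpow_neg_one, show m * -1 = (m.natAbs : ℤ) by omega] at this
      · exact hm
      · refine absurd ?_ (h m.natAbs (by omega) f hf0)
        rwa [show (m.natAbs : ℤ) = m by omega]
    refine hnt (eq_top_iff.2 fun f _ => ?_)
    obtain ⟨I, P, Q, m, hP, hQ, rfl⟩ := hfrac f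
    have hmem : ∀ (a : F) (i : ℤ), IsWeight σ a i → a ∈ invariants σ := fun a i ha => by
      by_cases ha0 : a = 0
      · rw [ha0]; exact zero_mem _
      · rw [hz ha ha0] at ha; exact hinv a ha
    exact div_mem (sum_mem fun k _ => hmem _ _ (hP k)) (sum_mem fun k _ => hmem _ _ (hQ k))
  obtain ⟨hd0, g, hg0, hg⟩ := Nat.find_spec hex
  set d := Nat.find hex
  refine ⟨g, ?_, ?_⟩
  · rw [transcendental_iff]
    intro p hp
    by_contra hp0
    have h1 : p.map (algebraMap (invariants σ) F) ≠ 0 :=
      (Polynomial.map_ne_zero_iff (algebraMap (invariants σ) F).injective).2 hp0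
    have key : σ.toRingHom.comp ((aeval g : (invariants σ)[X] →ₐ[invariants σ] F).toRingHom) =
        ((algebraMap F[X] (RatFunc F)).comp (compRingHom (C g * X ^ d))).comp
          (mapRingHom (algebraMap (invariants σ) F)) := by
      refine ringHom_ext (fun c => ?_) ?_
      · simp only [RingHom.comp_apply, AlgHom.toRingHom_eq_coe, RingHom.coe_coe, aeval_C, coe_mapRingHom, map_C,
          coe_compRingHom_apply, C_comp, RatFunc.algebraMap_C, ← RatFunc.algebraMap_eq_C]
        exact (mem_invariants σ).1 c.2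
      · simp only [RingHom.comp_apply, AlgHom.toRingHom_eq_coe, RingHom.coe_coe, aeval_X, coe_mapRingHom, map_X,
          coe_compRingHom_apply, X_comp, map_mul, map_pow, RatFunc.algebraMap_C, RatFunc.algebraMap_X,
          ← RatFunc.algebraMap_eq_C]
        rw [show σ g = algebraMap F (RatFunc F) g * RatFunc.X ^ (d : ℤ) from hg, zpow_natCast]
    have h2 := RingHom.congr_fun key p
    simp only [RingHom.comp_apply, AlgHom.toRingHom_eq_coe, RingHom.coe_coe, hp, map_zero] at h2
    rcases comp_eq_zero_iff.1 ((map_eq_zero_iff _ (RatFunc.algebraMap_injective F)).1 h2.symm) with h | ⟨-, h⟩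
    · exact h1 h
    · have hdeg := congrArg natDegree h
      rw [natDegree_C_mul_X_pow d g hg0, natDegree_C] at hdeg
      omega
  · refine eq_top_iff.2 fun f _ => ?_
    have hgm : g ∈ IntermediateField.adjoin (invariants σ) {g} := IntermediateField.subset_adjoin _ _ (Set.mem_singleton g)
    have hmem : ∀ (a : F) (i : ℤ), IsWeight σ a i → a ∈ IntermediateField.adjoin (invariants σ) {g} := fun a i ha => by
      have hb : IsWeight σ (a * g ^ (-(i / d))) (i % d) := by
        rw [IsWeight, map_mul, ha, hpow hg (-(i / d)), map_mul,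
          show (i % d : ℤ) = i + d * -(i / d) by rw [Int.emod_def]; ring, zpow_add₀ RatFunc.X_ne_zero]
        ring
      have hz : a * g ^ (-(i / d)) ∈ invariants σ := by
        by_cases h0 : a * g ^ (-(i / d)) = 0
        · rw [h0]; exact zero_mem _
        have hlt : i % (d : ℤ) < d := Int.emod_lt_of_pos i (by exact_mod_cast hd0)
        have hge : 0 ≤ i % (d : ℤ) := Int.emod_nonneg i (by omega)
        rcases hge.eq_or_lt with h | h
        · rw [← h] at hb; exact hinv _ hb
        · refine absurd ⟨by omega, _, h0, ?_⟩ (Nat.find_min hex (m := (i % (d : ℤ)).toNat) (by omega))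
          rwa [Int.toNat_of_nonneg hge]
      have : a = (a * g ^ (-(i / d))) * g ^ (i / d) := by
        rw [mul_assoc, ← zpow_add₀ hg0, neg_add_cancel, zpow_zero, mul_one]
      rw [this]
      exact mul_mem ((IntermediateField.adjoin (invariants σ) {g}).algebraMap_mem ⟨_, hz⟩) (zpow_mem hgm _)
    obtain ⟨I, P, Q, m, hP, hQ, rfl⟩ := hfrac f
    exact div_mem (sum_mem fun k _ => hmem _ _ (hP k)) (sum_mem fun k _ => hmem _ _ (hQ k))

end Groth.Agent.H02CA.GaGmRat
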