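import Groth.Agent.H02CA.GaGmRat.Generic
import Groth.Agent.H19Grp.PuncturedLineLaw

/-!
The additive and the multiplicative group in coordinates.
-/

namespace Groth.Agent.H02CA.GaGmRat

universe u

open Polynomial CategoryTheory CategoryTheory.Limits MonoidalCategory CartesianMonoidalCategory AlgebraicGeometry
open scoped MonObj
open Groth.Agent.H19Grp

variable {K : Type u} [Field K] {G : Over (Spec (CommRingCat.of K))} [GrpObj G]

/-- Evaluation at `r` extending `χ`. -/
noncomputable def evalAt {A R : Type u} [CommRing A] [Algebra K A] [CommRing R] [Algebra K R] (χ : A →ₐ[K] R) (r : R) :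
    A[X] →ₐ[K] R :=
  { eval₂RingHom χ.toRingHom r with
    commutes' := fun c => by simp [IsScalarTower.algebraMap_apply K A A[X]] }

/-- Coordinates on a group isomorphic to the additive group. -/
theorem exists_param_Ga (e : Grp.mk G ≅ Grp.mk (Red.Ga (Spec (CommRingCat.of K)))) :
    ∃ P : Param G, P.Universal ∧ (∀ (R : Type u) [CommRing R], P.c R = 0) ∧
      ∀ (R : Type u) [CommRing R] (a b : R), P.op a b = a + b := by
  classical
  obtain ⟨e₀, hone, hlaw⟩ := AffineLineLaw.add_law (k := K) inferInstance
  let f : Red.Ga (Spec (CommRingCat.of K)) ⟶ G := e.inv.hom.hom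
  haveI : IsMonHom f := e.inv.hom.isMonHom_hom
  let f' : G ⟶ Red.Ga (Spec (CommRingCat.of K)) := e.hom.hom.hom
  have hf'f : f' ≫ f = 𝟙 G := congrArg (fun φ => φ.hom.hom) e.hom_inv_id
  let P : Param G :=
    { c := fun R _ => 0
      ok := fun _ => True
      op := fun a b => a + b
      p := fun {R} _ _ r => AffineLineLaw.pt (k := K) (r + algebraMap K R e₀) ≫ f
      map_ok := fun _ _ _ => trivial
      map_c := fun φ => map_zero φ
      map_op := fun φ a b => map_add φ a b
      ok_field := fun _ _ => trivial
      ok_local := fun _ _ _ _ _ _ _ => trivial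
      natural := fun {R R'} _ _ _ _ φ r _ => by
        rw [← Category.assoc]
        congr 1
        exact AffineLineLaw.val_injective (by
          rw [AffineLineLaw.val_comp, AffineLineLaw.val_pt, AffineLineLaw.val_pt, map_add, AlgHom.commutes])
      p_c := fun R _ _ => by
        have : AffineLineLaw.pt (k := K) (0 + algebraMap K R e₀) = 1 := AffineLineLaw.val_injective (by
          rw [AffineLineLaw.val_pt, zero_add, Hom.one_def]
          exact (hone R).symm)
        rw [this, MonObj.one_comp]
      p_op := fun {R} _ _ a b _ _ => by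
        rw [← MonObj.mul_comp _ _ f]
        congr 1
        refine AffineLineLaw.val_injective ?_
        rw [Hom.mul_def, hlaw, AffineLineLaw.val_pt, AffineLineLaw.val_pt, AffineLineLaw.val_pt]
        ring }
  refine ⟨P, ⟨fun {R} _ _ g => ⟨AffineLineLaw.val (g ≫ f') - algebraMap K R e₀, trivial, ?_⟩,
    fun A F _ _ _ _ i hi => ?_⟩, fun R _ => rfl, fun R _ a b => rfl⟩
  · show AffineLineLaw.pt (k := K) (AffineLineLaw.val (g ≫ f') - algebraMap K R e₀ + algebraMap K R e₀) ≫ f = g
    rw [sub_add_cancel, AffineLineLaw.pt_val, Category.assoc, hf'f, Category.comp_id]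
  · refine ⟨A[X], inferInstance, inferInstance, Polynomial.X, IsScalarTower.toAlgHom K A A[X],
      (IsScalarTower.toAlgHom K F[X] (RatFunc F)).comp (Polynomial.mapAlgHom i), trivial,
      (RatFunc.algebraMap_injective F).comp (Polynomial.map_injective i.toRingHom hi), ?_, ?_,
      fun R _ _ χ r _ => ⟨evalAt χ r, ?_, ?_⟩⟩
    · show algebraMap F[X] (RatFunc F) (Polynomial.map i.toRingHom Polynomial.X) = _
      rw [map_X, RatFunc.algebraMap_X]
    · refine AlgHom.ext fun b => ?_
      show algebraMap F[X] (RatFunc F) (Polynomial.map i.toRingHom (C b)) = algebraMap F (RatFunc F) (i b)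
      rw [map_C, RatFunc.algebraMap_C, RatFunc.algebraMap_eq_C]
      rfl
    · refine AlgHom.ext fun b => ?_
      show Polynomial.eval₂ χ.toRingHom r (C b) = χ b
      rw [eval₂_C]; rfl
    · show Polynomial.eval₂ χ.toRingHom r Polynomial.X = r
      rw [eval₂_X]

/-- Coordinates on a group isomorphic to the multiplicative group. -/
theorem exists_param_Gm (e : Grp.mk G ≅ Grp.mk (Red.Gm (Spec (CommRingCat.of K)))) :
    ∃ P : Param G, P.Universal ∧ (∀ (R : Type u) [CommRing R], P.c R = 1) ∧
      ∀ (R : Type u) [CommRing R] (a b : R), P.op a b = a * b := by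
  classical
  obtain ⟨e₀, hone, hlaw⟩ := PuncturedLineLaw.mul_law (k := K) inferInstance
  let f : Red.Gm (Spec (CommRingCat.of K)) ⟶ G := e.inv.hom.hom
  haveI : IsMonHom f := e.inv.hom.isMonHom_hom
  let f' : G ⟶ Red.Gm (Spec (CommRingCat.of K)) := e.hom.hom.hom
  have hf'f : f' ≫ f = 𝟙 G := congrArg (fun φ => φ.hom.hom) e.hom_inv_id
  let pu := fun {R : Type u} [CommRing R] [Algebra K R] (r : Rˣ) =>
    PuncturedLineLaw.pt (k := K) (r * Units.map (algebraMap K R).toMonoidHom e₀) ≫ f
  let P : Param G :=
    { c := fun R _ => 1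
      ok := fun r => IsUnit r
      op := fun a b => a * b
      p := fun {R} _ _ r => if h : IsUnit r then pu h.unit else 1
      map_ok := fun φ _ h => h.map φ
      map_c := fun φ => map_one φ
      map_op := fun φ a b => map_mul φ a b
      ok_field := fun F _ => IsUnit.mk0 _ RatFunc.X_ne_zero
      ok_local := fun F _ R _ _ j hj => hj Polynomial.X (by simp)
      natural := fun {R R'} _ _ _ _ φ r h => by
        rw [dif_pos h, dif_pos (h.map φ), ← Category.assoc]
        congr 1
        exact PuncturedLineLaw.val_injective (by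
          rw [PuncturedLineLaw.val_comp, PuncturedLineLaw.val_pt, PuncturedLineLaw.val_pt, map_mul]
          congr 1
          · ext; simp
          · ext; simp)
      p_c := fun R _ _ => by
        rw [dif_pos isUnit_one]
        have : PuncturedLineLaw.pt (k := K) ((isUnit_one : IsUnit (1 : R)).unit * Units.map (algebraMap K R).toMonoidHom e₀) = 1 :=
          PuncturedLineLaw.val_injective (by
            rw [PuncturedLineLaw.val_pt, Hom.one_def, IsUnit.unit_one, one_mul]
            exact (hone R).symm)
        show PuncturedLineLaw.pt (k := K) _ ≫ f = 1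
        rw [this, MonObj.one_comp]
      p_op := fun {R} _ _ a b ha hb => by
        rw [dif_pos ha, dif_pos hb, dif_pos (ha.mul hb)]
        show PuncturedLineLaw.pt (k := K) _ ≫ f = (PuncturedLineLaw.pt (k := K) _ ≫ f) * (PuncturedLineLaw.pt (k := K) _ ≫ f)
        rw [← MonObj.mul_comp _ _ f]
        congr 1
        refine PuncturedLineLaw.val_injective ?_
        rw [Hom.mul_def, hlaw, PuncturedLineLaw.val_pt, PuncturedLineLaw.val_pt, PuncturedLineLaw.val_pt,
          show (ha.mul hb).unit = ha.unit * hb.unit from Units.ext rfl]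
        group
        ac_rfl }
  refine ⟨P, ⟨fun {R} _ _ g => ⟨((PuncturedLineLaw.val (g ≫ f') * (Units.map (algebraMap K R).toMonoidHom e₀)⁻¹ : Rˣ) : R),
    Units.isUnit _, ?_⟩, fun A F _ _ _ _ i hi => ?_⟩, fun R _ => rfl, fun R _ a b => rfl⟩
  · show dite _ _ _ = g
    rw [dif_pos (Units.isUnit _)]
    show PuncturedLineLaw.pt (k := K) _ ≫ f = g
    rw [IsUnit.unit_of_val_units, inv_mul_cancel_right, PuncturedLineLaw.pt_val, Category.assoc, hf'f, Category.comp_id]
  · let g₀ : A[X] →ₐ[K] RatFunc F := (IsScalarTower.toAlgHom K F[X] (RatFunc F)).comp (Polynomial.mapAlgHom i)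
    have hg₀ : Function.Injective g₀ := (RatFunc.algebraMap_injective F).comp (Polynomial.map_injective i.toRingHom hi)
    have hg₀X : g₀ Polynomial.X = RatFunc.X := by
      show algebraMap F[X] (RatFunc F) (Polynomial.map i.toRingHom Polynomial.X) = _
      rw [map_X, RatFunc.algebraMap_X]
    have hpow : ∀ w : Submonoid.powers (Polynomial.X : A[X]), IsUnit (g₀ (w : A[X])) := by
      rintro ⟨_, n, rfl⟩
      dsimp only
      rw [map_pow, hg₀X]
      exact (IsUnit.mk0 _ RatFunc.X_ne_zero).pow n
    let B := Localization.Away (Polynomial.X : A[X])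
    refine ⟨B, inferInstance, inferInstance, algebraMap A[X] B Polynomial.X,
      (IsScalarTower.toAlgHom K A[X] B).comp (IsScalarTower.toAlgHom K A A[X]),
      IsLocalization.liftAlgHom (M := Submonoid.powers (Polynomial.X : A[X])) (f := g₀) hpow,
      IsLocalization.Away.algebraMap_isUnit (Polynomial.X : A[X]), ?_, ?_, ?_, fun R _ _ χ r hr => ?_⟩
    · show Function.Injective (IsLocalization.lift hpow)
      rw [IsLocalization.lift_injective_iff]
      intro x y
      exact ⟨fun h => congrArg g₀ ((IsLocalization.injective B (powers_X_le_nonZeroDivisors)) h),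
        fun h => congrArg (algebraMap A[X] B) (hg₀ h)⟩
    · show IsLocalization.lift hpow (algebraMap A[X] B Polynomial.X) = _
      rw [IsLocalization.lift_eq]
      exact hg₀X
    · refine AlgHom.ext fun b => ?_
      show IsLocalization.lift hpow (algebraMap A[X] B (C b)) = algebraMap F (RatFunc F) (i b)
      rw [IsLocalization.lift_eq]
      show algebraMap F[X] (RatFunc F) (Polynomial.map i.toRingHom (C b)) = _
      rw [map_C, RatFunc.algebraMap_C, RatFunc.algebraMap_eq_C]
      rfl
    · let h₀ : A[X] →ₐ[K] R := evalAt χ r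
      have hh₀ : ∀ w : Submonoid.powers (Polynomial.X : A[X]), IsUnit (h₀ (w : A[X])) := by
        rintro ⟨_, n, rfl⟩
        dsimp only
        rw [map_pow]
        show IsUnit (Polynomial.eval₂ χ.toRingHom r Polynomial.X ^ n)
        rw [eval₂_X]
        exact hr.pow n
      refine ⟨IsLocalization.liftAlgHom (M := Submonoid.powers (Polynomial.X : A[X])) (f := h₀) hh₀, ?_, ?_⟩
      · refine AlgHom.ext fun b => ?_
        show IsLocalization.lift hh₀ (algebraMap A[X] B (C b)) = χ b
        rw [IsLocalization.lift_eq]
        show Polynomial.eval₂ χ.toRingHom r (C b) = χ b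
        rw [eval₂_C]; rfl
      · show IsLocalization.lift hh₀ (algebraMap A[X] B Polynomial.X) = r
        rw [IsLocalization.lift_eq]
        show Polynomial.eval₂ χ.toRingHom r Polynomial.X = r
        rw [eval₂_X]
where
  powers_X_le_nonZeroDivisors {A : Type u} [CommRing A] :
      Submonoid.powers (Polynomial.X : A[X]) ≤ nonZeroDivisors A[X] := by
    rintro _ ⟨n, rfl⟩
    exact pow_mem (Polynomial.monic_X.mem_nonZeroDivisors) n

end Groth.Agent.H02CA.GaGmRat
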