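import Groth.Agent.H02CA.GaGmRat.Additive
import Groth.Agent.H19Grp.AffineLineLaw
import Groth.Agent.H02CA.GaGmQuotient
import Groth.Agent.H20GQ.Fppf

/-!
The rational action on the function field defined by an action of a one-parameter group.
-/

namespace Groth.Agent.H02CA.GaGmRat

universe u

open Polynomial CategoryTheory CategoryTheory.Limits MonoidalCategory CartesianMonoidalCategory AlgebraicGeometry
open scoped MonObj
open Groth.Agent.H19Grp.AffineLineLaw (T Tmap)
open Groth.Agent.H02CA.GaGm (Tmap_comp Tmap_id)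

variable {K : Type u} [Field K]

/-- A one-parameter description of a group scheme: coordinates `a` with `ok a` give points, `op` is the law. -/
structure Param (G : Over (Spec (CommRingCat.of K))) [GrpObj G] where
  c : ∀ (R : Type u) [CommRing R], R
  ok : ∀ {R : Type u} [CommRing R], R → Prop
  op : ∀ {R : Type u} [CommRing R], R → R → R
  p : ∀ {R : Type u} [CommRing R] [Algebra K R], R → (T K R ⟶ G)
  map_ok : ∀ {R R' : Type u} [CommRing R] [CommRing R'] (φ : R →+* R') {a : R}, ok a → ok (φ a)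
  map_c : ∀ {R R' : Type u} [CommRing R] [CommRing R'] (φ : R →+* R'), φ (c R) = c R'
  map_op : ∀ {R R' : Type u} [CommRing R] [CommRing R'] (φ : R →+* R') (a b : R), φ (op a b) = op (φ a) (φ b)
  ok_field : ∀ (F : Type u) [Field F], ok (RatFunc.X : RatFunc F)
  ok_local : ∀ (F : Type u) [Field F] (R : Type u) [CommRing R] [IsLocalRing R] (j : F[X] →+* R),
    (∀ q : F[X], q.eval (c F) ≠ 0 → IsUnit (j q)) → ok (j X)
  natural : ∀ {R R' : Type u} [CommRing R] [Algebra K R] [CommRing R'] [Algebra K R'] (φ : R →ₐ[K] R') {a : R},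
    ok a → Tmap φ ≫ p a = p (φ a)
  p_c : ∀ (R : Type u) [CommRing R] [Algebra K R], (p (c R) : T K R ⟶ G) = 1
  p_op : ∀ {R : Type u} [CommRing R] [Algebra K R] {a b : R}, ok a → ok b → p (op a b) = p a * p b

variable {G X : Over (Spec (CommRingCat.of K))} [GrpObj G] (a : AlgGrp.Action G X) (P : Param G)
  {F : Type u} [Field F] [Algebra K F] (x₀ : T K F ⟶ X)

/-- Points hitting the generic point factor uniquely through `x₀`. -/
structure IsGenericPt : Prop where
  lift : ∀ {R : Type u} [CommRing R] [Algebra K R] [IsLocalRing R] (y : T K R ⟶ X),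
    y.left (IsLocalRing.closedPoint R) = x₀.left (IsLocalRing.closedPoint F) → ∃ ψ : F →ₐ[K] R, Tmap ψ ≫ x₀ = y
  inj : ∀ {R : Type u} [CommRing R] [Algebra K R] (ψ ψ' : F →ₐ[K] R), Tmap ψ ≫ x₀ = Tmap ψ' ≫ x₀ → ψ = ψ'

variable {a x₀}

theorem act_comp {R R' : Type u} [CommRing R] [Algebra K R] [CommRing R'] [Algebra K R'] (φ : R →ₐ[K] R')
    (g : T K R ⟶ G) (x : T K R ⟶ X) :
    Tmap φ ≫ lift g x ≫ a.act = lift (Tmap φ ≫ g) (Tmap φ ≫ x) ≫ a.act := by
  rw [← Category.assoc, comp_lift]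

/-- The rational action. -/
theorem exists_sigma (hx₀ : IsGenericPt x₀) :
    ∃ σ : F →ₐ[K] RatFunc F,
      Tmap σ ≫ x₀ = lift (P.p (RatFunc.X : RatFunc F)) (Tmap (IsScalarTower.toAlgHom K F (RatFunc F)) ≫ x₀) ≫ a.act ∧
      ∀ f : F, (σ f).denom.eval (P.c F) ≠ 0 ∧ f * (σ f).denom.eval (P.c F) = (σ f).num.eval (P.c F) := by
  classical
  let q : Ideal F[X] := RingHom.ker (evalRingHom (P.c F))
  haveI : q.IsPrime := RingHom.ker_isPrime _
  let R₀ := Localization.AtPrime q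
  have hq : ∀ w : q.primeCompl, IsUnit (aeval (P.c F) (w : F[X]) : F) := fun w => by
    refine IsUnit.mk0 _ fun h => w.2 ?_
    show (w : F[X]) ∈ RingHom.ker (evalRingHom (P.c F))
    simpa using h
  let e₀ : R₀ →ₐ[K] F := IsLocalization.liftAlgHom (M := q.primeCompl)
    (f := ((aeval (P.c F) : F[X] →ₐ[F] F).restrictScalars K)) hq
  have hj : ∀ w : q.primeCompl, IsUnit ((IsScalarTower.toAlgHom K F[X] (RatFunc F)) (w : F[X])) := fun w =>
    IsUnit.mk0 _ ((map_ne_zero_iff _ (RatFunc.algebraMap_injective F)).2 fun h => w.2 (by rw [h]; exact q.zero_mem))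
  let j : R₀ →ₐ[K] RatFunc F := IsLocalization.liftAlgHom (M := q.primeCompl)
    (f := IsScalarTower.toAlgHom K F[X] (RatFunc F)) hj
  have he₀ : ∀ w : F[X], e₀ (algebraMap F[X] R₀ w) = w.eval (P.c F) := fun w => by
    show (IsLocalization.lift hq) (algebraMap F[X] R₀ w) = _
    rw [IsLocalization.lift_eq]
    simp
  have hj₀ : ∀ w : F[X], j (algebraMap F[X] R₀ w) = algebraMap F[X] (RatFunc F) w := fun w => by
    show (IsLocalization.lift hj) (algebraMap F[X] R₀ w) = _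
    rw [IsLocalization.lift_eq]
    rfl
  let s₀ : R₀ := algebraMap F[X] R₀ Polynomial.X
  have hs₀ : P.ok s₀ := P.ok_local F R₀ (algebraMap F[X] R₀) fun w hw =>
    IsLocalization.map_units R₀ (⟨w, fun h => hw (by simpa [q] using h)⟩ : q.primeCompl)
  let ι₀ : F →ₐ[K] R₀ := IsScalarTower.toAlgHom K F R₀
  have hι₀ : ∀ b : F, ι₀ b = algebraMap F[X] R₀ (C b) := fun b => by
    rw [IsScalarTower.coe_toAlgHom', IsScalarTower.algebraMap_apply F F[X] R₀]
    rfl
  have hes : e₀ s₀ = P.c F := by rw [he₀, eval_X]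
  have hjs : j s₀ = RatFunc.X := by rw [hj₀, RatFunc.algebraMap_X]
  have heι : e₀.comp ι₀ = AlgHom.id K F := AlgHom.ext fun b => by
    rw [AlgHom.comp_apply, hι₀, he₀, eval_C]; rfl
  have hjι : j.comp ι₀ = IsScalarTower.toAlgHom K F (RatFunc F) := AlgHom.ext fun b => by
    rw [AlgHom.comp_apply, hι₀, hj₀, RatFunc.algebraMap_C, RatFunc.algebraMap_eq_C.symm]; rfl
  let y₀ : T K R₀ ⟶ X := lift (P.p s₀) (Tmap ι₀ ≫ x₀) ≫ a.act
  have hey : Tmap e₀ ≫ y₀ = x₀ := by
    rw [act_comp, P.natural e₀ hs₀, hes, ← Category.assoc, ← Tmap_comp, heι, Tmap_id, Category.id_comp, P.p_c,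
      H20GQ.act_one]
  haveI : IsLocalHom e₀.toRingHom := by
    refine ⟨fun z hz => ?_⟩
    obtain ⟨w, v, rfl⟩ := IsLocalization.exists_mk'_eq q.primeCompl z
    rw [IsLocalization.AtPrime.isUnit_mk'_iff R₀ q]
    intro hw
    have h1 : IsLocalization.mk' R₀ w v * algebraMap F[X] R₀ v = algebraMap F[X] R₀ w :=
      IsLocalization.mk'_spec R₀ w v
    have h2 := congrArg e₀ h1
    rw [map_mul, he₀, he₀, show w.eval (P.c F) = 0 by simpa [q] using hw, mul_eq_zero] at h2
    rcases h2 with h | h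
    · exact hz.ne_zero h
    · exact v.2 (by simpa [q] using h)
  obtain ⟨σ₀, hσ₀⟩ := hx₀.lift y₀ (by
    conv_rhs => rw [← hey]
    rw [Over.comp_left, Scheme.Hom.comp_apply]
    refine congrArg (fun z => y₀.left z) ?_
    exact (IsLocalRing.comap_closedPoint e₀.toRingHom).symm)
  have heσ : e₀.comp σ₀ = AlgHom.id K F := hx₀.inj _ _ (by
    rw [Tmap_comp, Category.assoc, hσ₀, hey, Tmap_id, Category.id_comp])
  refine ⟨j.comp σ₀, ?_, fun f => ?_⟩
  · rw [Tmap_comp, Category.assoc, hσ₀, act_comp, P.natural j hs₀, hjs, ← Category.assoc, ← Tmap_comp, hjι]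
  · obtain ⟨w, v, hwv⟩ := IsLocalization.exists_mk'_eq q.primeCompl (σ₀ f)
    have h1 : σ₀ f * algebraMap F[X] R₀ v = algebraMap F[X] R₀ w := by rw [← hwv]; exact IsLocalization.mk'_spec R₀ w v
    have hv : (v : F[X]).eval (P.c F) ≠ 0 := fun h => v.2 (by simpa [q] using h)
    have hv0 : (v : F[X]) ≠ 0 := fun h => hv (by rw [h, eval_zero])
    have h2 := congrArg e₀ h1
    rw [map_mul, he₀, he₀, show e₀ (σ₀ f) = f from DFunLike.congr_fun heσ f] at h2
    have h3 := congrArg j h1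
    rw [map_mul, hj₀, hj₀, show j (σ₀ f) = (j.comp σ₀) f from rfl] at h3
    have h4 : (j.comp σ₀) f = algebraMap F[X] (RatFunc F) w / algebraMap F[X] (RatFunc F) v := by
      rw [eq_div_iff ((map_ne_zero_iff _ (RatFunc.algebraMap_injective F)).2 hv0), h3]
    have hdvd : ((j.comp σ₀) f).denom ∣ (v : F[X]) := by rw [h4]; exact RatFunc.denom_div_dvd _ _
    have hd : ((j.comp σ₀) f).denom.eval (P.c F) ≠ 0 := fun h => hv (eval_eq_zero_of_dvd_of_eval_eq_zero hdvd h)
    have h5 : w * ((j.comp σ₀) f).denom = ((j.comp σ₀) f).num * v := by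
      apply RatFunc.algebraMap_injective F
      have h7 := (RatFunc.num_div_denom ((j.comp σ₀) f))
      rw [div_eq_iff ((map_ne_zero_iff _ (RatFunc.algebraMap_injective F)).2 ((j.comp σ₀) f).denom_ne_zero)] at h7
      rw [map_mul, map_mul, ← h3, h7]
      ring
    refine ⟨hd, mul_right_cancel₀ hv ?_⟩
    have h6 := congrArg (Polynomial.eval (P.c F)) h5
    rw [eval_mul, eval_mul, ← h2] at h6
    linear_combination h6

/-- Coassociativity. -/
theorem sigma_coassoc (hx₀ : IsGenericPt x₀) {σ : F →ₐ[K] RatFunc F}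
    (hσ : Tmap σ ≫ x₀ = lift (P.p (RatFunc.X : RatFunc F)) (Tmap (IsScalarTower.toAlgHom K F (RatFunc F)) ≫ x₀) ≫ a.act)
    (w : (RatFunc F)[X]) (hw : P.op (Polynomial.X : (RatFunc F)[X]) (C RatFunc.X) = w) (hdeg : w.natDegree ≠ 0) (f : F) :
    (σ f).num.map σ.toRingHom * ((σ f).denom.map (algebraMap F (RatFunc F))).comp w =
      ((σ f).num.map (algebraMap F (RatFunc F))).comp w * (σ f).denom.map σ.toRingHom := by
  classical
  let E := RatFunc (RatFunc F)
  let ψ₀ : F[X] →ₐ[K] E := (IsScalarTower.toAlgHom K (RatFunc F)[X] E).comp (Polynomial.mapAlgHom σ)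
  let φ₀ : F[X] →ₐ[K] E := (IsScalarTower.toAlgHom K (RatFunc F)[X] E).comp
    (((Polynomial.aeval w : (RatFunc F)[X] →ₐ[RatFunc F] (RatFunc F)[X]).restrictScalars K).comp
      (Polynomial.mapAlgHom (IsScalarTower.toAlgHom K F (RatFunc F))))
  have hψ₀ : ∀ q : F[X], ψ₀ q = algebraMap (RatFunc F)[X] E (q.map σ.toRingHom) := fun q => rfl
  have hφ₀ : ∀ q : F[X], φ₀ q = algebraMap (RatFunc F)[X] E ((q.map (algebraMap F (RatFunc F))).comp w) := fun q => by
    show algebraMap _ E (aeval w _) = _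
    rw [aeval_def, comp, show algebraMap (RatFunc F) (RatFunc F)[X] = C from rfl]
    rfl
  have hψi : Function.Injective ψ₀ :=
    (RatFunc.algebraMap_injective _).comp (Polynomial.map_injective σ.toRingHom σ.toRingHom.injective)
  have hφi : Function.Injective φ₀ := by
    refine (injective_iff_map_eq_zero _).2 fun q hq => ?_
    rw [hφ₀, map_eq_zero_iff _ (RatFunc.algebraMap_injective _)] at hq
    rcases comp_eq_zero_iff.1 hq with h | ⟨-, h⟩
    · exact (Polynomial.map_eq_zero_iff (algebraMap F (RatFunc F)).injective).1 h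
    · exact absurd (h ▸ natDegree_C _) hdeg
  let Ψ : RatFunc F →ₐ[K] E := IsFractionRing.liftAlgHom (g := ψ₀) hψi
  let Φ : RatFunc F →ₐ[K] E := IsFractionRing.liftAlgHom (g := φ₀) hφi
  have hΨ : ∀ q, Ψ (algebraMap F[X] (RatFunc F) q) = ψ₀ q := fun q => IsFractionRing.lift_algebraMap hψi q
  have hΦ : ∀ q, Φ (algebraMap F[X] (RatFunc F) q) = φ₀ q := fun q => IsFractionRing.lift_algebraMap hφi q
  let i₁ : RatFunc F →ₐ[K] E := IsScalarTower.toAlgHom K (RatFunc F) E
  let i₂ : F →ₐ[K] E := i₁.comp (IsScalarTower.toAlgHom K F (RatFunc F))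
  have hΨs : Ψ RatFunc.X = RatFunc.X := by
    rw [← RatFunc.algebraMap_X, hΨ, hψ₀, map_X, RatFunc.algebraMap_X]
  have hΨc : Ψ.comp (IsScalarTower.toAlgHom K F (RatFunc F)) = i₁.comp σ := AlgHom.ext fun b => by
    show Ψ (algebraMap F (RatFunc F) b) = algebraMap (RatFunc F) E (σ b)
    rw [RatFunc.algebraMap_eq_C, ← RatFunc.algebraMap_C, hΨ, hψ₀, map_C, RatFunc.algebraMap_C,
      RatFunc.algebraMap_eq_C]
    rfl
  have hΦs : Φ RatFunc.X = P.op (RatFunc.X : E) (i₁ RatFunc.X) := by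
    rw [← RatFunc.algebraMap_X, hΦ, hφ₀, map_X, X_comp, ← hw, P.map_op, RatFunc.algebraMap_X, RatFunc.algebraMap_C,
      ← RatFunc.algebraMap_eq_C, RatFunc.algebraMap_X]
    rfl
  have hΦc : Φ.comp (IsScalarTower.toAlgHom K F (RatFunc F)) = i₂ := AlgHom.ext fun b => by
    show Φ (algebraMap F (RatFunc F) b) = algebraMap (RatFunc F) E (algebraMap F (RatFunc F) b)
    rw [RatFunc.algebraMap_eq_C, ← RatFunc.algebraMap_C, hΦ, hφ₀, map_C, C_comp, RatFunc.algebraMap_C,
      RatFunc.algebraMap_eq_C, RatFunc.algebraMap_C, RatFunc.algebraMap_eq_C]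
  have hok₁ : P.ok (RatFunc.X : E) := P.ok_field _
  have hok₂ : P.ok (i₁ RatFunc.X) := P.map_ok i₁.toRingHom (P.ok_field _)
  have key : Ψ.comp σ = Φ.comp σ := hx₀.inj _ _ (by
    rw [Tmap_comp, Tmap_comp, Category.assoc, Category.assoc, hσ, act_comp, act_comp, P.natural Ψ (P.ok_field _),
      P.natural Φ (P.ok_field _), hΨs, hΦs, ← Category.assoc, ← Tmap_comp, hΨc, ← Category.assoc, ← Tmap_comp, hΦc,
      P.p_op hok₁ hok₂, H20GQ.act_mul]
    congr 2
    rw [Tmap_comp, Category.assoc, hσ, act_comp, P.natural i₁ (P.ok_field _), ← Category.assoc, ← Tmap_comp])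
  have hf := DFunLike.congr_fun key f
  rw [AlgHom.comp_apply, AlgHom.comp_apply, ← RatFunc.num_div_denom (σ f), map_div₀, map_div₀, hΨ, hΨ, hΦ, hΦ,
    div_eq_div_iff ((map_ne_zero_iff _ hψi).2 (σ f).denom_ne_zero) ((map_ne_zero_iff _ hφi).2 (σ f).denom_ne_zero),
    hψ₀, hψ₀, hφ₀, hφ₀, ← map_mul, ← map_mul] at hf
  exact RatFunc.algebraMap_injective _ hf

end Groth.Agent.H02CA.GaGmRat
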